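import Groth.Prelude.Def_KZero
import Mathlib

/-!
# `K₀` of finite modules over a node
-/

set_option autoImplicit false
set_option linter.style.haveILetI false

universe u

noncomputable section

open CategoryTheory CategoryTheory.Limits

namespace Groth.Agent.KNodeLib

variable (A : Type u) [CommRing A]

/-- The finite modules. -/
abbrev FinP : ObjectProperty (ModuleCat.{u} A) := fun M => Module.Finite A M

variable {A}

/-- The class of a module. -/
def c (M : Type u) [AddCommGroup M] [Module A M] : KZero.K0sub (FinP A) := KZero.clSub (FinP A) (ModuleCat.of A M)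

theorem cl_ses {N M L : Type u} [AddCommGroup N] [Module A N] [AddCommGroup M] [Module A M] [AddCommGroup L]
    [Module A L] [Module.Finite A N] [Module.Finite A M] [Module.Finite A L] (f : N →ₗ[A] M) (g : M →ₗ[A] L)
    (hf : Function.Injective f) (hfg : Function.Exact f g) (hg : Function.Surjective g) :
    c (A := A) M = c (A := A) N + c (A := A) L := by
  let S : ShortComplex (ModuleCat.{u} A) := ShortComplex.mk (ModuleCat.ofHom f) (ModuleCat.ofHom g)
    (by ext x; exact hfg.apply_apply_eq_zero x)
  have hS : S.ShortExact :=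
    { exact := (ShortComplex.ShortExact.moduleCat_exact_iff_function_exact S).2 hfg
      mono_f := (ModuleCat.mono_iff_injective _).2 hf
      epi_g := (ModuleCat.epi_iff_surjective _).2 hg }
  have h1 : FinP A S.X₁ := ‹Module.Finite A N›
  have h2 : FinP A S.X₂ := ‹Module.Finite A M›
  have h3 : FinP A S.X₃ := ‹Module.Finite A L›
  show KZero.clSub (FinP A) S.X₂ = KZero.clSub (FinP A) S.X₁ + KZero.clSub (FinP A) S.X₃
  simp only [KZero.clSub, dif_pos h1, dif_pos h2, dif_pos h3]
  rw [← QuotientAddGroup.mk_add, QuotientAddGroup.eq]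
  have : FreeAbelianGroup.of (⟨S.X₂, h2⟩ : Subtype (FinP A)) - FreeAbelianGroup.of ⟨S.X₁, h1⟩ -
      FreeAbelianGroup.of ⟨S.X₃, h3⟩ ∈ KZero.relSub (FinP A) :=
    AddSubgroup.subset_closure ⟨S, h1, h2, h3, hS, rfl⟩
  convert (KZero.relSub (FinP A)).neg_mem this using 1
  abel

theorem cl_subsingleton {M : Type u} [AddCommGroup M] [Module A M] [Subsingleton M] : c (A := A) M = 0 := by
  haveI : Module.Finite A M := inferInstance
  have := cl_ses (0 : M →ₗ[A] M) (0 : M →ₗ[A] M) (fun a b _ => Subsingleton.elim a b)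
    (fun a => ⟨fun _ => ⟨0, Subsingleton.elim _ _⟩, fun _ => Subsingleton.elim _ _⟩) (fun a => ⟨0, Subsingleton.elim _ _⟩)
  simpa using this

theorem cl_equiv {M N : Type u} [AddCommGroup M] [Module A M] [AddCommGroup N] [Module A N] [Module.Finite A M]
    (e : M ≃ₗ[A] N) : c (A := A) N = c (A := A) M := by
  haveI : Module.Finite A N := Module.Finite.equiv e
  haveI : Module.Finite A PUnit.{u + 1} := inferInstance
  have := cl_ses (0 : PUnit.{u + 1} →ₗ[A] M) e.toLinearMap (fun a b _ => Subsingleton.elim a b)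
    (fun a => ⟨fun h => ⟨0, (e.map_eq_zero_iff.1 h).symm⟩, fun ⟨_, h⟩ => by rw [← h]; exact map_zero _⟩) e.surjective
  rw [cl_subsingleton (M := PUnit.{u + 1}), zero_add] at this
  exact this.symm

theorem cl_pi (B : Type u) [AddCommGroup B] [Module A B] [Module.Finite A B] :
    ∀ n : ℕ, c (A := A) (Fin n → B) = n • c (A := A) B := by
  intro n
  induction n with
  | zero => rw [zero_smul]; exact cl_subsingleton
  | succ n ih =>
    let e := Fin.consLinearEquiv A (fun _ : Fin (n + 1) => B)
    rw [cl_equiv (A := A) e, cl_ses (LinearMap.inl A B (Fin n → B)) (LinearMap.snd A B (Fin n → B))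
      LinearMap.inl_injective Function.Exact.inl_snd LinearMap.snd_surjective, ih, succ_nsmul']

/-- Modules killed by an ideal with principal domain quotient. -/
theorem cl_mem_zmultiples (I : Ideal A) [I.IsPrime] [IsPrincipalIdealRing (A ⧸ I)] (M : Type u)
    [AddCommGroup M] [Module A M] [Module.Finite A M] (h : Module.IsTorsionBySet A M I) :
    ∃ m : ℤ, c (A := A) M = m • c (A := A) (A ⧸ I) := by
  letI := h.module
  haveI : IsScalarTower A (A ⧸ I) M := h.isScalarTower
  haveI : Module.Finite (A ⧸ I) M := Module.Finite.of_restrictScalars_finite A (A ⧸ I) M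
  haveI : IsNoetherianRing (A ⧸ I) := inferInstance
  obtain ⟨n, g, hg⟩ := Module.Finite.exists_fin' (A ⧸ I) M
  let b := Module.Free.chooseBasis (A ⧸ I) (LinearMap.ker g)
  haveI : Fintype (Module.Free.ChooseBasisIndex (A ⧸ I) (LinearMap.ker g)) := Fintype.ofFinite _
  let e := (b.reindex (Fintype.equivFin _)).equivFun.restrictScalars A
  haveI : Module.Finite A (A ⧸ I) := inferInstance
  haveI : Module.Finite A (LinearMap.ker g) := Module.Finite.equiv e.symm
  have hs := cl_ses ((LinearMap.ker g).subtype.restrictScalars A) (g.restrictScalars A) Subtype.val_injective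
    (LinearMap.exact_subtype_ker_map g) hg
  rw [cl_pi, (cl_equiv (A := A) e).symm.trans (cl_pi _ _)] at hs
  refine ⟨(n : ℤ) - (Fintype.card (Module.Free.ChooseBasisIndex (A ⧸ I) (LinearMap.ker g)) : ℤ), ?_⟩
  rw [sub_smul, natCast_zsmul, natCast_zsmul, hs]
  abel

section Node

variable [IsNoetherianRing A] (x y : A)

theorem cl_surj (hxy : x * y = 0) [(Ideal.span {x}).IsPrime] [(Ideal.span {y}).IsPrime]
    [IsPrincipalIdealRing (A ⧸ Ideal.span {x})] [IsPrincipalIdealRing (A ⧸ Ideal.span {y})]
    (z : KZero.K0sub (FinP A)) :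
    ∃ a b : ℤ, a • c (A := A) (A ⧸ Ideal.span {x}) + b • c (A := A) (A ⧸ Ideal.span {y}) = z := by
  obtain ⟨z, rfl⟩ := QuotientAddGroup.mk_surjective z
  induction z using FreeAbelianGroup.induction_on with
  | zero => exact ⟨0, 0, by simp⟩
  | of M =>
    obtain ⟨M, hM⟩ := M
    haveI : Module.Finite A M := hM
    let N : Submodule A M := LinearMap.range (LinearMap.lsmul A M x)
    have hs := cl_ses N.subtype N.mkQ Subtype.val_injective (LinearMap.exact_subtype_mkQ N) N.mkQ_surjective
    obtain ⟨b, hb⟩ := cl_mem_zmultiples (Ideal.span {y}) N fun n ⟨r, hr⟩ => by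
      obtain ⟨d, rfl⟩ := Ideal.mem_span_singleton.1 hr
      obtain ⟨w, hw⟩ := n.2
      refine Subtype.ext ?_
      show (y * d) • (n : M) = 0
      rw [← hw, LinearMap.lsmul_apply, smul_smul, show y * d * x = d * (x * y) by ring, hxy, mul_zero, zero_smul]
    obtain ⟨a, ha⟩ := cl_mem_zmultiples (Ideal.span {x}) (M ⧸ N) fun m ⟨r, hr⟩ => by
      obtain ⟨d, rfl⟩ := Ideal.mem_span_singleton.1 hr
      obtain ⟨w, rfl⟩ := N.mkQ_surjective m
      show (x * d) • N.mkQ w = 0
      rw [← map_smul, Submodule.mkQ_apply, Submodule.Quotient.mk_eq_zero]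
      exact ⟨d • w, by simp [smul_smul, mul_comm x d]⟩
    refine ⟨a, b, ?_⟩
    rw [← ha, ← hb, add_comm, ← hs]
    exact dif_pos hM
  | neg M ih =>
    obtain ⟨a, b, h⟩ := ih
    refine ⟨-a, -b, ?_⟩
    rw [QuotientAddGroup.mk_neg, ← h, neg_smul, neg_smul]
    abel
  | add z w hz hw =>
    obtain ⟨a, b, h⟩ := hz
    obtain ⟨a', b', h'⟩ := hw
    refine ⟨a + a', b + b', ?_⟩
    rw [QuotientAddGroup.mk_add, ← h, ← h', add_smul, add_smul]
    abel

variable (P : Ideal A) [P.IsPrime]

/-- The generic rank at a prime. -/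
def rk (M : Type u) [AddCommGroup M] [Module A M] : ℤ :=
  Module.finrank (Localization.AtPrime P) (LocalizedModule P.primeCompl M)

theorem isField_localization (hxy : x * y = 0) (hP : P = Ideal.span {y}) (hx : x ∉ P) :
    IsField (Localization.AtPrime P) := by
  rw [IsLocalRing.isField_iff_maximalIdeal_eq, ← Localization.AtPrime.map_eq_maximalIdeal]
  refine (Ideal.map_eq_bot_iff_le_ker _).2 (hP.le.trans ((Ideal.span_singleton_le_iff_mem _).2 ?_))
  rw [RingHom.mem_ker]
  exact (IsLocalization.map_units (Localization.AtPrime P) (⟨x, hx⟩ : P.primeCompl)).mul_right_eq_zero.1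
    (by rw [← map_mul, hxy, map_zero])

theorem rk_ses (hF : IsField (Localization.AtPrime P)) {N M L : Type u} [AddCommGroup N] [Module A N]
    [AddCommGroup M] [Module A M] [AddCommGroup L] [Module A L] [Module.Finite A M]
    (f : N →ₗ[A] M) (g : M →ₗ[A] L) (hf : Function.Injective f) (hfg : Function.Exact f g)
    (hg : Function.Surjective g) : rk P M = rk P N + rk P L := by
  letI := hF.toField
  haveI : Module.Finite (Localization.AtPrime P) (LocalizedModule P.primeCompl M) := inferInstance
  let F := LocalizedModule.map P.primeCompl f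
  let G := LocalizedModule.map P.primeCompl g
  have h1 : Function.Injective F := LocalizedModule.map_injective _ f hf
  have h2 : Function.Exact F G := LocalizedModule.map_exact _ f g hfg
  have h3 : Function.Surjective G := LocalizedModule.map_surjective _ g hg
  have := LinearMap.finrank_range_add_finrank_ker G
  rw [LinearMap.range_eq_top.2 h3, finrank_top, LinearMap.exact_iff.1 h2,
    LinearMap.finrank_range_of_inj h1] at this
  simp only [rk, ← this]
  push_cast
  ring

theorem rk_self : rk P (A ⧸ P) = 1 ∨ ¬ IsField (Localization.AtPrime P) := by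
  by_cases hF : IsField (Localization.AtPrime P)
  swap
  · exact Or.inr hF
  left
  letI := hF.toField
  have h : Module.finrank (Localization.AtPrime P) (LocalizedModule P.primeCompl (A ⧸ P)) = 1 := by
    refine finrank_eq_one (LocalizedModule.mk (Ideal.Quotient.mk P 1) 1) (fun h => ?_) fun w => ?_
    · rw [← LocalizedModule.zero_mk (1 : P.primeCompl), LocalizedModule.mk_eq] at h
      obtain ⟨u, hu⟩ := h
      simp only [one_smul, smul_zero] at hu
      refine u.2 (Ideal.Quotient.eq_zero_iff_mem.1 ?_)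
      rw [← mul_one (u : A), map_mul]
      exact hu
    · induction w using LocalizedModule.induction_on with
      | _ m s =>
        obtain ⟨a, rfl⟩ := Ideal.Quotient.mk_surjective m
        refine ⟨Localization.mk a s, ?_⟩
        rw [LocalizedModule.mk_smul_mk, mul_one]
        congr 1
        show a • Ideal.Quotient.mk P 1 = Ideal.Quotient.mk P a
        rw [Algebra.smul_def, map_one, mul_one]; rfl
  simp [rk, h]

theorem rk_other (hx : x ∉ P) : rk P (A ⧸ Ideal.span {x}) = 0 := by
  haveI : Subsingleton (LocalizedModule P.primeCompl (A ⧸ Ideal.span {x})) := by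
    rw [LocalizedModule.subsingleton_iff]
    intro m
    refine ⟨x, hx, ?_⟩
    obtain ⟨a, rfl⟩ := Ideal.Quotient.mk_surjective m
    exact Ideal.Quotient.eq_zero_iff_mem.2 (Ideal.mul_mem_right a _ (Ideal.mem_span_singleton_self x))
  simp [rk, Module.finrank_zero_of_subsingleton]

/-- The generic rank on `K₀`. -/
def rkHom (hF : IsField (Localization.AtPrime P)) : KZero.K0sub (FinP A) →+ ℤ :=
  QuotientAddGroup.lift _ (FreeAbelianGroup.lift fun M => rk P (M : Subtype (FinP A)).1) <| by
    rw [KZero.relSub, AddSubgroup.closure_le]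
    rintro _ ⟨S, h1, h2, h3, hS, rfl⟩
    simp only [SetLike.mem_coe, AddMonoidHom.mem_ker, map_sub, FreeAbelianGroup.lift_apply_of]
    haveI : Module.Finite A S.X₂ := h2
    rw [rk_ses P hF S.f.hom S.g.hom ((ModuleCat.mono_iff_injective _).1 hS.mono_f)
      ((ShortComplex.ShortExact.moduleCat_exact_iff_function_exact S).1 hS.exact)
      ((ModuleCat.epi_iff_surjective _).1 hS.epi_g)]
    ring

theorem rkHom_c (hF : IsField (Localization.AtPrime P)) (M : Type u) [AddCommGroup M] [Module A M]
    [hM : Module.Finite A M] : rkHom P hF (c (A := A) M) = rk P M := by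
  rw [c, KZero.clSub, dif_pos (show FinP A (ModuleCat.of A M) from hM)]
  simp [rkHom]

theorem bijective (hxy : x * y = 0) [(Ideal.span {x}).IsPrime] [(Ideal.span {y}).IsPrime]
    [IsPrincipalIdealRing (A ⧸ Ideal.span {x})] [IsPrincipalIdealRing (A ⧸ Ideal.span {y})]
    (hx : x ∉ Ideal.span {y}) (hy : y ∉ Ideal.span {x}) :
    Function.Bijective fun p : ℤ × ℤ =>
      p.1 • c (A := A) (A ⧸ Ideal.span {x}) + p.2 • c (A := A) (A ⧸ Ideal.span {y}) := by
  have hFy := isField_localization x y (Ideal.span {y}) hxy rfl hx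
  have hFx := isField_localization y x (Ideal.span {x}) (by rw [mul_comm, hxy]) rfl hy
  have h2 : ∀ a b : ℤ, rkHom _ hFy (a • c (A := A) (A ⧸ Ideal.span {x}) + b • c (A := A) (A ⧸ Ideal.span {y})) = b :=
    fun a b => by
      rw [map_add, map_zsmul, map_zsmul, rkHom_c, rkHom_c, rk_other x _ hx,
        (rk_self (Ideal.span {y})).resolve_right (fun h => h hFy)]
      simp
  have h1 : ∀ a b : ℤ, rkHom _ hFx (a • c (A := A) (A ⧸ Ideal.span {x}) + b • c (A := A) (A ⧸ Ideal.span {y})) = a :=
    fun a b => by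
      rw [map_add, map_zsmul, map_zsmul, rkHom_c, rkHom_c, rk_other y _ hy,
        (rk_self (Ideal.span {x})).resolve_right (fun h => h hFx)]
      simp
  constructor
  · rintro ⟨a, b⟩ ⟨a', b'⟩ h
    exact Prod.ext ((h1 a b).symm.trans ((congrArg _ h).trans (h1 a' b')))
      ((h2 a b).symm.trans ((congrArg _ h).trans (h2 a' b')))
  · intro z
    obtain ⟨a, b, h⟩ := cl_surj x y hxy z
    exact ⟨(a, b), h⟩

end Node

theorem bijective_node (k : Type u) [Field k] (I : Ideal (MvPolynomial (Fin 2) k))
    (hI : I = Ideal.span {MvPolynomial.X 0 * MvPolynomial.X 1}) :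
    Function.Bijective fun p : ℤ × ℤ =>
      p.1 • c (A := MvPolynomial (Fin 2) k ⧸ I)
          ((MvPolynomial (Fin 2) k ⧸ I) ⧸ Ideal.span {Ideal.Quotient.mk I (MvPolynomial.X 0)}) +
      p.2 • c (A := MvPolynomial (Fin 2) k ⧸ I)
          ((MvPolynomial (Fin 2) k ⧸ I) ⧸ Ideal.span {Ideal.Quotient.mk I (MvPolynomial.X 1)}) := by
  subst hI
  set I : Ideal (MvPolynomial (Fin 2) k) := Ideal.span {MvPolynomial.X 0 * MvPolynomial.X 1} with hI
  have hprime : ∀ i : Fin 2, (Ideal.span {Ideal.Quotient.mk I (MvPolynomial.X i)}).IsPrime := fun i => by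
    haveI : (Ideal.span {(MvPolynomial.X i : MvPolynomial (Fin 2) k)}).IsPrime :=
      (Ideal.span_singleton_prime (MvPolynomial.X_ne_zero i)).2 MvPolynomial.X_prime
    have := Ideal.map_isPrime_of_surjective (f := Ideal.Quotient.mk I) Ideal.Quotient.mk_surjective
      (I := Ideal.span {(MvPolynomial.X i : MvPolynomial (Fin 2) k)}) (by
        rw [Ideal.mk_ker, hI, Ideal.span_singleton_le_iff_mem, Ideal.mem_span_singleton]
        fin_cases i
        · exact dvd_mul_right _ _
        · exact dvd_mul_left _ _)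
    rwa [Ideal.map_span, Set.image_singleton] at this
  have hpid : ∀ i j : Fin 2, (∀ l, l = i ∨ l = j) →
      IsPrincipalIdealRing ((MvPolynomial (Fin 2) k ⧸ I) ⧸ Ideal.span {Ideal.Quotient.mk I (MvPolynomial.X i)}) := by
    intro i j hij
    let q := (Ideal.Quotient.mkₐ k (Ideal.span {Ideal.Quotient.mk I (MvPolynomial.X i)})).comp (Ideal.Quotient.mkₐ k I)
    refine IsPrincipalIdealRing.of_surjective (Polynomial.aeval (R := k) (q (MvPolynomial.X j))).toRingHom fun z => ?_
    obtain ⟨z, rfl⟩ := Ideal.Quotient.mk_surjective z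
    obtain ⟨z, rfl⟩ := Ideal.Quotient.mk_surjective z
    let ψ : MvPolynomial (Fin 2) k →ₐ[k] Polynomial k := MvPolynomial.aeval fun l => if l = j ∧ l ≠ i then Polynomial.X else 0
    refine ⟨ψ z, ?_⟩
    show ((Polynomial.aeval (R := k) (q (MvPolynomial.X j))).comp ψ) z = q z
    congr 1
    refine MvPolynomial.algHom_ext fun l => ?_
    by_cases hl : l = i
    · subst hl
      simp only [AlgHom.comp_apply, ψ, MvPolynomial.aeval_X, ne_eq, not_true, and_false, if_false, map_zero, q,
        Ideal.Quotient.mkₐ_eq_mk]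
      exact (Ideal.Quotient.eq_zero_iff_mem.2 (Ideal.mem_span_singleton_self _)).symm
    · have := (hij l).resolve_left hl
      subst this
      simp [ψ, hl]
  have hnot : ∀ i j : Fin 2, i ≠ j →
      Ideal.Quotient.mk I (MvPolynomial.X i) ∉ Ideal.span {Ideal.Quotient.mk I (MvPolynomial.X j)} := fun i j hij h => by
    obtain ⟨d, hd⟩ := Ideal.mem_span_singleton.1 h
    obtain ⟨d, rfl⟩ := Ideal.Quotient.mk_surjective d
    rw [← map_mul, Ideal.Quotient.eq, hI, Ideal.mem_span_singleton] at hd
    obtain ⟨e, he⟩ := hd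
    have := congrArg (MvPolynomial.eval fun l => if l = i then (1 : k) else 0) he
    fin_cases i <;> fin_cases j <;> first | exact (hij rfl).elim | simp at this
  haveI := hprime 0
  haveI := hprime 1
  haveI := hpid 0 1 (fun l => by omega)
  haveI := hpid 1 0 (fun l => by omega)
  exact bijective _ _ (by rw [← map_mul, Ideal.Quotient.eq_zero_iff_mem, hI]; exact Ideal.mem_span_singleton_self _)
    (hnot 0 1 (by decide)) (hnot 1 0 (by decide))

end Groth.Agent.KNodeLib
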